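import Mathlib
import Cfsg.Agent.Lib.OrthOmega.Simple
import Cfsg.Agent.Lib.AutPSU.Card
import Cfsg.Agent.S0303

/-!
The orthogonal group of minus type in dimension six over two elements is the automorphism group of
PSU(4,2).
-/

set_option autoImplicit false
set_option linter.style.haveILetI false
set_option linter.unusedSectionVars false

namespace Cfsg.Agent.Lib.OrthSixMinus

open Module Cfsg.Agent.Lib.OrthOmega Cfsg.Agent.Lib.Forms Cfsg.Agent.Lib.OrthStd

theorem iso_aut {K : Type*} [Field K] [Fintype K] (hK : Fintype.card K = 4)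
    (hcard : Nat.card (MulAut (Cfsg.PSU 4 K 2)) = 51840) :
    Nonempty (↥(Cfsg.isometryGroup (ZMod 2) (Cfsg.quadFormMinus 2 (ZMod 2) 1 1)) ≃*
      MulAut (Cfsg.PSU 4 K 2)) := by
  haveI : Fact (Nat.Prime 2) := ⟨Nat.prime_two⟩
  have hab : ∀ z₁ z₂ : ZMod 2, z₁ ^ 2 + 1 * z₁ * z₂ + 1 * z₂ ^ 2 = 0 → z₁ = 0 ∧ z₂ = 0 := by decide +revert
  set Q := qMinus 2 (1 : ZMod 2) 1
  have hf : ∀ v, Cfsg.quadFormMinus 2 (ZMod 2) 1 1 v = Q v := fun v => (qMinus_apply 2 1 1 v).symm
  have hQ : Nondeg Q := qMinus_nondeg 2 hab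
  have h5 : 5 ≤ finrank (ZMod 2) ((Fin 2 ⊕ Fin 2) ⊕ Fin 2 → ZMod 2) := by rw [finrank_fun]; simp
  have hneg : ∀ x : (Fin 2 ⊕ Fin 2) ⊕ Fin 2 → ZMod 2, -x = x := fun x => by
    funext i; exact ZMod.neg_eq_self_mod_two _
  haveI : (EG Q).Normal := EG_normal Q
  -- the centre of the simple half is trivial
  have hcen : Subgroup.center (EG Q) = ⊥ := by
    rw [Subgroup.eq_bot_iff_forall]
    intro g hg
    rcases (mem_center_EG_iff hQ h5 g).mp hg with h | h
    · exact Subtype.ext (orth_ext h)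
    · exact Subtype.ext (orth_ext fun x => (h x).trans (hneg x))
  obtain ⟨e0⟩ := Cfsg.Agent.S0303.result (F := ZMod 2) (K := K) (q := 2) (ZMod.card 2) (by rw [hK]; norm_num) 1 1 hab
  let eE : ↥(EG Q) ≃* Cfsg.PSU 4 K 2 :=
    (((pOmegaEquiv Q hQ h5 hf).trans ((QuotientGroup.quotientMulEquivOfEq hcen).trans
      QuotientGroup.quotientBot)).symm).trans e0
  let φ : ↥(orth Q) →* MulAut (Cfsg.PSU 4 K 2) :=
    (MulAut.congr eE).toMonoidHom.comp MulAut.conjNormal
  have hinj : Function.Injective φ := by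
    rw [injective_iff_map_eq_one]
    intro g hg
    have hg' : MulAut.conjNormal (H := EG Q) g = 1 := (MulAut.congr eE).injective (hg.trans (map_one _).symm)
    have hcomm : ∀ (e u : (Fin 2 ⊕ Fin 2) ⊕ Fin 2 → ZMod 2) (hu : SPair Q e u), g * rho hu = rho hu * g := by
      intro e u hu
      have := congrArg Subtype.val (MulEquiv.ext_iff.mp hg' ⟨rho hu, rho_mem hu⟩)
      rw [MulAut.conjNormal_apply, MulAut.one_apply] at this
      exact mul_inv_eq_iff_eq_mul.mp this
    rcases scalar_of_lines hQ (by omega) (fun x hx => line_of_central hQ (by omega) hcomm hx) with h | h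
    · exact orth_ext h
    · exact orth_ext fun x => (h x).trans (hneg x)
  have hO : Nat.card ↥(orth Q) = 51840 := by
    rw [← Nat.card_congr (isoOrth Q hf).toEquiv]
    have := card_orth_minus (F := ZMod 2) (ZMod.card 2) 3 (by norm_num) hab
    rw [show 3 - 1 = 2 from rfl] at this
    rw [this]
    simp [Finset.prod_range_succ]
  have hbij : Function.Bijective φ :=
    (Nat.bijective_iff_injective_and_card φ).mpr ⟨hinj, by rw [hO, hcard]⟩
  exact ⟨(isoOrth Q hf).trans (MulEquiv.ofBijective φ hbij)⟩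

end Cfsg.Agent.Lib.OrthSixMinus
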